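import Cfsg.Agent.H162.CC.Tools3
import Cfsg.Agent.H235.TitsRow
import Cfsg.Agent.H933.TitsBN
import Cfsg.Agent.H933.TitsSep
import Cfsg.Agent.H184.StrTits

/-!
# The row of the Tits group in S3828 (helper239, task 2663 of helper162)
-/

set_option autoImplicit false

namespace Cfsg.Agent.H239.CRowTits

open Subgroup Cfsg Cfsg.Agent.Lib.Cores Cfsg.Agent.H162.CCR

universe u

section Gen

variable {G : Type*} [Group G] [Finite G]

/-- the order of the normalizer of a subgroup of prime order -/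
theorem card_normalizer_dvd {q : ℕ} (hq : q.Prime) {P : Subgroup G} (hP : Nat.card P = q) :
    Nat.card (normalizer (P : Set G)) ∣ Nat.card (centralizer (P : Set G)) * (q - 1) := by
  have : Fact q.Prime := ⟨hq⟩
  have hcyc : IsCyclic P := isCyclic_of_prime_card hP
  have key : ((centralizer (P : Set G)).subgroupOf (normalizer (P : Set G))).index ∣ q - 1 := by
    have h1 := card_dvd_of_injective _ (QuotientGroup.kerLift_injective P.normalizerMonoidHom)
    rw [normalizerMonoidHom_ker, ← Subgroup.index, hcyc.card_mulAut, hP, Nat.totient_prime hq] at h1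
    exact h1
  rw [← ((centralizer (P : Set G)).subgroupOf (normalizer (P : Set G))).card_mul_index]
  refine mul_dvd_mul ?_ key
  exact H235.TitsIdx.card_subgroupOf_dvd _ _

/-- `O_p(H)` as a subgroup of `G` -/
theorem le_normalizer_pCore {p : ℕ} (H : Subgroup G) : H ≤ normalizer (((pCore p H).map H.subtype : Subgroup G) : Set G) := by
  intro h hh
  rw [Subgroup.mem_normalizer_iff]
  intro x
  constructor
  · rintro ⟨y, hy, rfl⟩
    exact ⟨⟨h, hh⟩ * y * ⟨h, hh⟩⁻¹, (inferInstance : (pCore p H).Normal).conj_mem y hy ⟨h, hh⟩, rfl⟩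
  · rintro ⟨y, hy, e⟩
    refine ⟨⟨h, hh⟩⁻¹ * y * ⟨h, hh⟩, ?_, ?_⟩
    · have := (inferInstance : (pCore p H).Normal).conj_mem y hy ⟨h, hh⟩⁻¹
      rwa [inv_inv] at this
    · change h⁻¹ * (y : G) * h = x
      rw [show (y : G) = h * x * h⁻¹ from e]
      group

/-- a `p`-subgroup of order prime to `q` ... : `O_p(H)` has order `p` -/
theorem card_pCore {p : ℕ} [hp : Fact p.Prime] {H : Subgroup G} (h1 : pCore p H ≠ ⊥) (h2 : ¬ p ^ 2 ∣ Nat.card H) :
    Nat.card ((pCore p H).map H.subtype : Subgroup G) = p := by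
  rw [← Nat.card_congr ((pCore p H).equivMapOfInjective H.subtype H.subtype_injective).toEquiv]
  obtain ⟨n, hn⟩ := IsPGroup.iff_card.1 (pCore_isPGroup (G := H) p)
  have h3 : n ≠ 0 := by
    rintro rfl
    rw [pow_zero] at hn
    exact h1 (Subgroup.card_eq_one.1 hn)
  have h4 : n < 2 := by
    by_contra h4
    exact h2 (((pow_dvd_pow p (not_lt.1 h4)).trans (dvd_of_eq hn.symm)).trans (card_subgroup_dvd_card _))
  have h5 : n = 1 := by omega
  rw [hn, h5, pow_one]

end Gen

section Row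

variable {G : Type u} [Group G] [Finite G] [IsSimpleGroup G]

theorem row_two (hna : ¬ IsMulCommutative G) (h : Lie.IsoTits G) [Fact (Nat.Prime 2)] : CRow 2 G := by
  intro C hC
  have hO : pCore 2 G = ⊥ := pCore_eq_bot_of_simple hna 2
  have hc : Nat.card G = 2 ^ 11 * 8775 := by
    rw [(CpAutTits.Row.out h).card]; norm_num
  obtain ⟨h1, ⟨A, hA⟩, ⟨B, hB⟩⟩ := H933.TitsBN.odd2_tits h
  have hiA : A.index = 2925 := by
    have := A.card_mul_index
    rw [hA, hc] at this
    omega
  have hiB : B.index = 1755 := by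
    have := B.card_mul_index
    rw [hB, hc] at this
    omega
  have hAt : A ≠ ⊤ := by
    intro h2
    rw [h2, index_top] at hiA
    omega
  have hBt : B ≠ ⊤ := by
    intro h2
    rw [h2, index_top] at hiB
    omega
  refine hC.eq_one_of_two_index hO (H := A) (K := B) ⟨hAt, fun K hK => ?_⟩ (by rw [hiA]; norm_num) hBt
    (by rw [hiB]; norm_num) (by rw [hA, hB]; norm_num)
  by_contra hKt
  have hKi : ¬ 2 ∣ K.index := by
    intro h2
    have h3 : K.index ∣ 2925 := by rw [← hiA]; exact index_dvd_of_le hK.le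
    have h4 : 2 ∣ 2925 := h2.trans h3
    omega
  have hAK : 2 ^ 11 * 3 ∣ Nat.card K := by
    rw [← hA]
    exact card_dvd_of_le hK.le
  rcases h1 K hKt hKi with h2 | h2
  · have h3 : Nat.card K ≤ Nat.card A := by
      rw [hA]
      exact Nat.le_of_dvd (by norm_num) h2
    exact hK.ne (eq_of_le_of_card_ge hK.le h3)
  · have h3 := hAK.trans h2
    omega

theorem exists_M (h : Lie.IsoTits G) : ∃ M : Subgroup G, Nat.card M = 5616 := by
  obtain ⟨e⟩ := h
  obtain ⟨M, hM⟩ := H184.StrTits.exists_M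
  refine ⟨M.map e.symm.toMonoidHom, ?_⟩
  rw [← hM]
  exact (Nat.card_congr (M.equivMapOfInjective e.symm.toMonoidHom e.symm.injective).toEquiv).symm

theorem row_thirteen (h : Lie.IsoTits G) [f13 : Fact (Nat.Prime 13)] : CRow 13 G := by
  intro C hC
  obtain ⟨M, hM⟩ := exists_M h
  have F := H235.TitsRow.facts h
  have hi : M.index = 3200 := by
    have := M.card_mul_index
    rw [hM, F.card] at this
    omega
  have hMt : M ≠ ⊤ := by
    intro h2
    rw [h2, index_top] at hi
    omega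
  refine hC.eq_one_of_index hMt (by rw [hi]; norm_num) ?_
  by_contra hne
  have h2 := card_pCore hne (by rw [hM]; norm_num)
  obtain ⟨P, hP⟩ := H933.TitsSep.exists_thirteen F
  -- the Sylow subgroups have order 13
  have hcP : Nat.card (P : Subgroup G) = 13 := by
    rw [P.card_eq_multiplicity, F.card]
    have : (17971200 : ℕ).factorization 13 = 1 := by
      rw [show (17971200 : ℕ) = 13 * 1382400 by norm_num, Nat.factorization_mul (by norm_num) (by norm_num)]
      simp only [Finsupp.add_apply]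
      rw [Nat.Prime.factorization_self f13.out, Nat.factorization_eq_zero_of_not_dvd (by norm_num)]
    rw [this, pow_one]
  have hp1 : IsPGroup 13 ((pCore 13 M).map M.subtype : Subgroup G) := (pCore_isPGroup 13).map _
  obtain ⟨Q, hQ⟩ := hp1.exists_le_sylow
  have hQe : ((pCore 13 M).map M.subtype : Subgroup G) = Q := by
    refine eq_of_le_of_card_ge hQ ?_
    rw [h2]
    exact ((Nat.card_congr (Sylow.equiv Q P).toEquiv).trans hcP).le
  have hN : Nat.card (normalizer ((Q : Subgroup G) : Set G)) = 78 := by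
    rw [← hP]
    have e1 : Nat.card (Sylow 13 G) = (normalizer ((Q : Subgroup G) : Set G)).index := Q.card_eq_index_normalizer
    have e2 : Nat.card (Sylow 13 G) = (normalizer ((P : Subgroup G) : Set G)).index := P.card_eq_index_normalizer
    have e3 := (normalizer ((Q : Subgroup G) : Set G)).card_mul_index
    have e4 := (normalizer ((P : Subgroup G) : Set G)).card_mul_index
    rw [← e1] at e3
    rw [← e2, ← e3] at e4
    exact (Nat.eq_of_mul_eq_mul_right Nat.card_pos e4).symm
  have h3 := card_dvd_of_le (le_normalizer_pCore (p := 13) M)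
  rw [hQe, hN, hM] at h3
  revert h3
  norm_num

theorem row_five (h : Lie.IsoTits G) [f5 : Fact (Nat.Prime 5)] : CRow 5 G := by
  intro C hC c hc
  by_contra hc1
  have F := H235.TitsRow.facts h
  obtain ⟨-, -, ⟨B, hB⟩⟩ := H933.TitsBN.odd2_tits h
  have hBt : B ≠ ⊤ := by
    intro h2
    rw [h2, card_top, F.card] at hB
    omega
  -- `c` has order 5
  have ho : orderOf c = 5 := by
    obtain ⟨k, hk⟩ := hC.pel c hc
    have h25 : c ^ 25 = 1 := by
      have h1 : 5 ^ k ∣ 17971200 := by rw [← hk, ← F.card]; exact orderOf_dvd_natCard c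
      have hk2 : k ≤ 2 := by
        by_contra hk2
        have h3 : 5 ^ 3 ∣ 17971200 := (pow_dvd_pow 5 (not_le.1 hk2)).trans h1
        revert h3; norm_num
      apply orderOf_dvd_iff_pow_eq_one.1
      rw [hk]
      exact pow_dvd_pow 5 hk2
    exact orderOf_eq_prime (F.exp c h25) hc1
  obtain ⟨y, hy⟩ := exists_prime_orderOf_dvd_card' (G := B) 5 (by rw [hB]; norm_num)
  have hy' : orderOf (y : G) = 5 := by rw [orderOf_coe, hy]
  obtain ⟨g, hg⟩ := isConj_iff.1 (F.one c y ho hy')
  have hyC : (y : G) ∈ C := by rw [← hg]; exact hC.conj g c hc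
  have hy1 : (y : G) = 1 := by
    refine hC.eq_one_of_mem hBt ?_ hyC y.2
    by_contra hne
    have h2 := card_pCore hne (by rw [hB]; norm_num)
    set P : Subgroup G := (pCore 5 B).map B.subtype with hP
    have h3 := card_normalizer_dvd f5.out h2
    obtain ⟨z, hz⟩ := exists_prime_orderOf_dvd_card' (G := P) 5 (by rw [h2])
    have h4 : Nat.card (centralizer (P : Set G)) ∣ 50 := by
      rw [← F.cent z (by rw [orderOf_coe, hz])]
      exact card_dvd_of_le (centralizer_le (by
        rintro _ rfl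
        exact z.2))
    have h5 : 2 ^ 11 * 5 ∣ 50 * (5 - 1) := by
      rw [← hB]
      exact ((card_dvd_of_le (le_normalizer_pCore (p := 5) B)).trans h3).trans (mul_dvd_mul h4 (dvd_refl _))
    revert h5
    norm_num
  rw [hy1, orderOf_one] at hy'
  omega

theorem row_three (hna : ¬ IsMulCommutative G) (h : Lie.IsoTits G) [f3 : Fact (Nat.Prime 3)] : CRow 3 G := by
  intro C hC c hc
  by_contra hc1
  have F := H235.TitsRow.facts h
  obtain ⟨D⟩ := F.dat
  have hi : ¬ 3 ∣ D.R.index := by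
    have h1 := D.R.card_mul_index
    rw [D.card_R, F.card] at h1
    have h2 : D.R.index = 665600 := by omega
    rw [h2]; norm_num
  obtain ⟨g, hg⟩ := hC.exists_conj_mem hi hc
  obtain ⟨k, hk⟩ := isConj_iff.1 (D.R_isConj hg (fun h1 => hc1 (by simpa using h1)))
  have ht : D.t ∈ C := by
    rw [← hk]
    exact hC.conj k _ (hC.conj g c hc)
  have f13 : Fact (Nat.Prime 13) := ⟨by norm_num⟩
  have hx13 : IsPGroup 13 (zpowers D.x) := IsPGroup.of_card (n := 1) (by
    rw [Nat.card_zpowers, orderOf_eq_prime D.x13 D.x1, pow_one])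
  have hN : normalizer ((zpowers D.x : Subgroup G) : Set G) ≠ ⊤ :=
    normalizer_ne_top (pCore_eq_bot_of_simple hna 13) hx13 (by
      rw [Ne, zpowers_eq_bot]
      exact D.x1)
  have htN : D.t ∈ normalizer ((zpowers D.x : Subgroup G) : Set G) := by
    refine mem_normalizer_fintype fun y hy => ?_
    obtain ⟨n, rfl⟩ := mem_zpowers_iff.1 hy
    rw [← conj_zpow, D.txt]
    exact zpow_mem (pow_mem (mem_zpowers _) _) _
  have hxN : D.x ∈ normalizer ((zpowers D.x : Subgroup G) : Set G) := le_normalizer (mem_zpowers _)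
  have h1 := hC.loc _ hN D.t ht htN
  set N := normalizer ((zpowers D.x : Subgroup G) : Set G) with hNdef
  have h2 : (⟨D.t, htN⟩ : N) * ⟨D.x, hxN⟩ * (⟨D.t, htN⟩ : N)⁻¹ * (⟨D.x, hxN⟩ : N)⁻¹ ∈ pCore 3 N := by
    have e : (⟨D.t, htN⟩ : N) * ⟨D.x, hxN⟩ * (⟨D.t, htN⟩ : N)⁻¹ * (⟨D.x, hxN⟩ : N)⁻¹ =
        (⟨D.t, htN⟩ : N) * (⟨D.x, hxN⟩ * (⟨D.t, htN⟩ : N)⁻¹ * (⟨D.x, hxN⟩ : N)⁻¹) := by group
    rw [e]
    exact mul_mem h1 ((inferInstance : (pCore 3 N).Normal).conj_mem _ (inv_mem h1) _)
  obtain ⟨j, hj⟩ := (pCore_isPGroup (G := N) 3) ⟨_, h2⟩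
  have h3 : (D.x ^ 2) ^ 3 ^ j = 1 := by
    have e1 := congrArg (fun z : pCore 3 N => ((z : N) : G)) hj
    change (D.t * D.x * D.t⁻¹ * D.x⁻¹) ^ 3 ^ j = 1 at e1
    rw [D.txt] at e1
    have e2 : D.x ^ 3 * D.x⁻¹ = D.x ^ 2 := by group
    rwa [e2] at e1
  have h4 : (D.x ^ 2) ^ 13 = 1 := by rw [← pow_mul, mul_comm, pow_mul, D.x13, one_pow]
  have h5 : D.x ^ 2 = 1 := by
    have h6 : orderOf (D.x ^ 2) ∣ Nat.gcd (3 ^ j) 13 :=
      Nat.dvd_gcd (orderOf_dvd_of_pow_eq_one h3) (orderOf_dvd_of_pow_eq_one h4)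
    have h7 : Nat.gcd (3 ^ j) 13 = 1 := Nat.Coprime.pow_left j (by norm_num)
    rw [h7, Nat.dvd_one, orderOf_eq_one_iff] at h6
    exact h6
  apply D.x1
  calc D.x = D.x ^ 13 * ((D.x ^ 2) ^ 6)⁻¹ := by group
    _ = 1 := by rw [D.x13, h5]; simp

/-- **The row of the Tits group in S3828.** -/
theorem crow_tits {p : ℕ} [hp : Fact p.Prime] (h : Lie.IsoTits G) : CRow p G := by
  have hna : ¬ IsMulCommutative G := by
    intro hm
    have h1 := CpAutTits.Row.center_bot (CpAutTits.Row.out h)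
    have h2 : center G = ⊤ := eq_top_iff.2 fun x _ => mem_center_iff.2 fun g => hm.is_comm.comm g x
    rw [h1] at h2
    exact bot_ne_top h2
  by_cases h2 : p = 2
  · subst h2; exact row_two hna h
  by_cases h3 : p = 3
  · subst h3; exact row_three hna h
  by_cases h5 : p = 5
  · subst h5; exact row_five h
  by_cases h13 : p = 13
  · subst h13; exact row_thirteen h
  intro C hC c hc
  obtain ⟨k, hk⟩ := hC.pel c hc
  have hd : ¬ p ∣ Nat.card G := by
    intro hd
    rw [(CpAutTits.Row.out h).card] at hd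
    rcases (Nat.Prime.dvd_mul hp.out).1 hd with hd | hd
    · rcases (Nat.Prime.dvd_mul hp.out).1 hd with hd | hd
      · rcases (Nat.Prime.dvd_mul hp.out).1 hd with hd | hd
        · exact h2 ((Nat.prime_dvd_prime_iff_eq hp.out (by norm_num)).1 (hp.out.dvd_of_dvd_pow hd))
        · exact h3 ((Nat.prime_dvd_prime_iff_eq hp.out (by norm_num)).1 (hp.out.dvd_of_dvd_pow hd))
      · exact h5 ((Nat.prime_dvd_prime_iff_eq hp.out (by norm_num)).1 (hp.out.dvd_of_dvd_pow hd))
    · exact h13 ((Nat.prime_dvd_prime_iff_eq hp.out (by norm_num)).1 hd)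
  rcases Nat.eq_zero_or_pos k with hk0 | hk0
  · rw [hk0, pow_zero, orderOf_eq_one_iff] at hk
    exact hk
  · exfalso
    apply hd
    exact ((dvd_pow_self p hk0.ne').trans (dvd_of_eq hk.symm)).trans (orderOf_dvd_natCard c)

end Row

end Cfsg.Agent.H239.CRowTits
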