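import Cfsg.Agent.H54.PQ.Defs
import Cfsg.Agent.H866.OverPQ
import Cfsg.Agent.Characters.Core
import Cfsg.Agent.Characters.Linear

/-!
# S4981 C6: the Mackey lemma (helper239, for helper54)
-/

set_option autoImplicit false

namespace Cfsg.Agent.H239.PQMackey

open Subgroup Cfsg Cfsg.Agent.H54.PQ

universe u

section intertwine

variable {S : Type u} [Group S] {n : ℕ}

/-- the (unnormalised) projector on the `ψ`-eigenspace of `B` -/
noncomputable def eOp (B : Subgroup S) [Fintype B] (ρ : Representation ℂ S (Fin n → ℂ)) (ψ : B →* ℂˣ) :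
    Module.End ℂ (Fin n → ℂ) := ∑ b : B, ((ψ b⁻¹ : ℂˣ) : ℂ) • ρ (b : S)

theorem eOp_mul (B : Subgroup S) [Fintype B] (ρ : Representation ℂ S (Fin n → ℂ)) (ψ : B →* ℂˣ) (b : B) :
    eOp B ρ ψ * ρ (b : S) = ((ψ b : ℂˣ) : ℂ) • eOp B ρ ψ := by
  unfold eOp
  rw [Finset.sum_mul, Finset.smul_sum]
  refine Fintype.sum_equiv (Equiv.mulRight b) _ _ fun c => ?_
  rw [smul_mul_assoc, ← map_mul, smul_smul]
  have h1 : (Equiv.mulRight b) c = c * b := rfl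
  rw [h1, ← Units.val_mul, ← map_mul]
  congr 3
  rw [mul_inv_rev, ← mul_assoc, mul_inv_cancel, one_mul]

theorem mul_eOp (B : Subgroup S) [Fintype B] (ρ : Representation ℂ S (Fin n → ℂ)) (ψ : B →* ℂˣ) (b : B) :
    ρ (b : S) * eOp B ρ ψ = ((ψ b : ℂˣ) : ℂ) • eOp B ρ ψ := by
  unfold eOp
  rw [Finset.mul_sum, Finset.smul_sum]
  refine Fintype.sum_equiv (Equiv.mulLeft b) _ _ fun c => ?_
  rw [mul_smul_comm, ← map_mul, smul_smul]
  have h1 : (Equiv.mulLeft b) c = b * c := rfl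
  have h2 : ψ c⁻¹ = ψ b * ψ (b * c)⁻¹ := by
    rw [← map_mul, mul_inv_rev, map_mul, map_mul, mul_comm (ψ b), mul_assoc, ← map_mul, inv_mul_cancel, map_one,
      mul_one]
  rw [h1, h2, Units.val_mul]
  rfl

theorem trace_eOp (B : Subgroup S) [Fintype B] (ρ : Representation ℂ S (Fin n → ℂ)) (ψ : B →* ℂˣ) :
    LinearMap.trace ℂ (Fin n → ℂ) (eOp B ρ ψ) = ∑ᶠ b : B, ρ.character (b : S) * (starRingEnd ℂ) ((ψ b : ℂˣ) : ℂ) := by
  rw [finsum_eq_sum_of_fintype]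
  unfold eOp
  rw [map_sum]
  refine Finset.sum_congr rfl fun b _ => ?_
  have : Finite B := Finite.of_fintype B
  have h1 : (starRingEnd ℂ) ((ψ b : ℂˣ) : ℂ) = ((ψ b⁻¹ : ℂˣ) : ℂ) := by
    have h2 := Characters.Linear.norm_hom_apply ψ b
    rw [map_inv, Units.val_inv_eq_inv_val]
    rw [Complex.inv_def, Complex.normSq_eq_norm_sq, h2]
    simp
  rw [h1, map_smul, smul_eq_mul, mul_comm]
  rfl

/-- intertwining numbers: two linear characters of `B` under the same irreducible character -/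
theorem intertwine [Finite S] {χ : S → ℂ} (hχ : IsIrrCharacter S χ) (B : Subgroup S) (ψ ψ' : B →* ℂˣ)
    (h : ∑ᶠ b : B, χ (b : S) * (starRingEnd ℂ) ((ψ b : ℂˣ) : ℂ) ≠ 0)
    (h' : ∑ᶠ b : B, χ (b : S) * (starRingEnd ℂ) ((ψ' b : ℂˣ) : ℂ) ≠ 0) :
    ∃ g : S, ∀ b b' : B, (b' : S) = g⁻¹ * b * g → ψ' b = ψ b' := by
  classical
  have : Fintype B := Fintype.ofFinite B
  obtain ⟨n, ρ, hρ, rfl⟩ := hχ
  rw [← trace_eOp] at h h'
  have he : eOp B ρ ψ ≠ 0 := by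
    intro h0
    exact h (by rw [h0, map_zero])
  have he' : eOp B ρ ψ' ≠ 0 := by
    intro h0
    exact h' (by rw [h0, map_zero])
  let U : Subrepresentation ρ :=
    { toSubmodule :=
        { carrier := {v | ∀ g : S, eOp B ρ ψ' (ρ g v) = 0}
          add_mem' := by
            intro v w hv hw g
            rw [map_add, map_add, hv g, hw g, add_zero]
          zero_mem' := by
            intro g
            rw [map_zero, map_zero]
          smul_mem' := by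
            intro c v hv g
            rw [map_smul, map_smul, hv g, smul_zero] }
      apply_mem_toSubmodule := by
        intro g v hv g'
        have h1 := hv (g' * g)
        rw [map_mul] at h1
        exact h1 }
  have hU : U ≠ ⊤ := by
    intro h0
    apply he'
    refine LinearMap.ext fun v => ?_
    have h1 : v ∈ U.toSubmodule := by
      rw [h0]
      exact Submodule.mem_top
    have h2 := h1 1
    rw [map_one] at h2
    exact h2
  have hU' : U = ⊥ := (hρ.eq_bot_or_eq_top U).resolve_right hU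
  obtain ⟨g, hg⟩ : ∃ g : S, eOp B ρ ψ' * ρ g * eOp B ρ ψ ≠ 0 := by
    by_contra hc
    push Not at hc
    apply he
    refine LinearMap.ext fun v => ?_
    have h1 : eOp B ρ ψ v ∈ U.toSubmodule := by
      intro g
      have h2 := hc g
      have h3 := congrArg (fun f : Module.End ℂ (Fin n → ℂ) => f v) h2
      exact h3
    rw [hU'] at h1
    exact h1
  refine ⟨g, fun b b' hb => ?_⟩
  have h1 : ρ (b : S) * ρ g = ρ g * ρ (b' : S) := by
    rw [← map_mul, ← map_mul, hb]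
    congr 1
    group
  have h2 : ((ψ' b : ℂˣ) : ℂ) • (eOp B ρ ψ' * ρ g * eOp B ρ ψ) =
      ((ψ b' : ℂˣ) : ℂ) • (eOp B ρ ψ' * ρ g * eOp B ρ ψ) := by
    calc ((ψ' b : ℂˣ) : ℂ) • (eOp B ρ ψ' * ρ g * eOp B ρ ψ) = (((ψ' b : ℂˣ) : ℂ) • eOp B ρ ψ') * ρ g * eOp B ρ ψ := by
          rw [smul_mul_assoc, smul_mul_assoc]
      _ = eOp B ρ ψ' * ρ g * (ρ (b' : S) * eOp B ρ ψ) := by
          rw [← eOp_mul, mul_assoc (eOp B ρ ψ'), h1, mul_assoc, mul_assoc, mul_assoc]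
      _ = ((ψ b' : ℂˣ) : ℂ) • (eOp B ρ ψ' * ρ g * eOp B ρ ψ) := by
          rw [mul_eOp, mul_smul_comm]
  exact Units.ext (smul_left_injective ℂ hg h2)

end intertwine

/-- **C6, the Mackey lemma** (plan 3.2), with the result of `exists_inv_over` as a hypothesis -/
theorem mackey_of {p q : ℕ} [Fact p.Prime] [Fact q.Prime] {S : Type u} [Group S] [Finite S]
    {A Φ : Subgroup (MulAut S)} (hΦ : IsPGroup q Φ) (hinv : InvHyp p A Φ)
    (B N T : Subgroup S) (hBNB : ∀ g : S, ∃ b ∈ B, ∃ n ∈ N, ∃ b' ∈ B, g = b * n * b') (hTB : T ≤ B)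
    (hNT : ∀ n ∈ N, ∀ t ∈ T, n * t * n⁻¹ ∈ T)
    (hNq : ∀ n ∈ N, ∃ k : ℕ, ¬ q ∣ k ∧ ∀ t ∈ T, n ^ k * t * (n ^ k)⁻¹ = t)
    {f : MulAut S} (hf : f ∈ Φ)
    (hfT : ∀ t ∈ T, f t ∈ T) (hfB : B.map (f : MulAut S).toMonoidHom = B)
    (hfN : ∀ n ∈ N, ∀ t ∈ T, f (n * t * n⁻¹) = n * f t * n⁻¹) (ψ : B →* ℂˣ)
    (hEO : ∃ χ : IrrCharacter S, ¬ p ∣ charDegree (χ : S → ℂ) ∧ (∀ a ∈ A, InvF a (χ : S → ℂ)) ∧
      ∑ᶠ h : B, (χ : S → ℂ) h * (starRingEnd ℂ) ((ψ h : ℂˣ) : ℂ) ≠ 0)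
    {t t' : B} (ht : (t : S) ∈ T) (ht' : (t' : S) = f t) (hne : ψ t' ≠ ψ t) : False := by
  classical
  obtain ⟨χ, hd, hA, hne0⟩ := hEO
  have hχf : InvF f (χ : S → ℂ) := hinv χ hd hA f hf
  have hmem : ∀ b : S, b ∈ B → f b ∈ B := by
    intro b hb
    rw [← hfB]
    exact Subgroup.mem_map_of_mem _ hb
  -- the automorphism of `B`
  let fB : B →* B := (f.toMonoidHom.comp B.subtype).codRestrict B (fun b => hmem b b.2)
  have hfBv : ∀ b : B, ((fB b : B) : S) = f b := fun b => rfl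
  have hfBi : Function.Injective fB := by
    intro b b' h
    have h1 := congrArg (fun x : B => (x : S)) h
    exact Subtype.ext (f.injective h1)
  have hfBb : Function.Bijective fB := ⟨hfBi, Finite.surjective_of_injective hfBi⟩
  have h2 : ∑ᶠ b : B, (χ : S → ℂ) (b : S) * (starRingEnd ℂ) (((ψ.comp fB) b : ℂˣ) : ℂ) ≠ 0 := by
    have h3 : ∑ᶠ b : B, (χ : S → ℂ) (b : S) * (starRingEnd ℂ) (((ψ.comp fB) b : ℂˣ) : ℂ) =
        ∑ᶠ h : B, (χ : S → ℂ) h * (starRingEnd ℂ) ((ψ h : ℂˣ) : ℂ) := by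
      refine finsum_eq_of_bijective fB hfBb fun b => ?_
      rw [hfBv, hχf]
      rfl
    rw [h3]
    exact hne0
  obtain ⟨g, hg⟩ := intertwine χ.2 B ψ (ψ.comp fB) hne0 h2
  obtain ⟨b₁, hb₁, n, hn, b₂, hb₂, rfl⟩ := hBNB g
  -- the extension of `ψ` by one
  let F : S → ℂˣ := fun s => if h : s ∈ B then ψ ⟨s, h⟩ else 1
  have hF : ∀ b : B, F b = ψ b := fun b => by
    show (if h : (b : S) ∈ B then ψ ⟨b, h⟩ else 1) = ψ b
    rw [dif_pos b.2]
  have hniT : ∀ n ∈ N, ∀ t ∈ T, n⁻¹ * t * n ∈ T := by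
    intro n hn t ht
    have h3 := hNT n⁻¹ (N.inv_mem hn) t ht
    rwa [inv_inv] at h3
  have key : ∀ t ∈ T, F (f t) = F (n⁻¹ * t * n) := by
    intro t ht
    have h3 : n⁻¹ * t * n ∈ B := hTB (hniT n hn t ht)
    have h4 : t ∈ B := hTB ht
    have h5 := hg (⟨b₁, hb₁⟩ * ⟨t, h4⟩ * ⟨b₁, hb₁⟩⁻¹) (⟨b₂, hb₂⟩⁻¹ * ⟨n⁻¹ * t * n, h3⟩ * ⟨b₂, hb₂⟩) (by
      push_cast
      group)
    rw [map_mul, map_mul, map_mul, map_mul, map_inv, map_inv, mul_comm _ (ψ.comp fB ⟨t, h4⟩),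
      mul_inv_cancel_right, mul_comm _ (ψ ⟨n⁻¹ * t * n, h3⟩), inv_mul_cancel_right] at h5
    rw [← hF] at h5
    rw [← h5, MonoidHom.comp_apply, ← hF, hfBv]
  have hfjT : ∀ j : ℕ, ∀ t ∈ T, (f ^ j) t ∈ T := by
    intro j
    induction j with
    | zero => intro t ht; simpa using ht
    | succ j ih =>
      intro t ht
      rw [pow_succ, MulAut.mul_apply]
      exact ih _ (hfT t ht)
  have iter : ∀ j : ℕ, ∀ t ∈ T, F ((f ^ j) t) = F ((n ^ j)⁻¹ * t * n ^ j) := by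
    intro j
    induction j with
    | zero => intro t ht; simp
    | succ j ih =>
      intro t ht
      rw [pow_succ, MulAut.mul_apply, ih _ (hfT t ht)]
      have h3 := hfN (n ^ j)⁻¹ (N.inv_mem (N.pow_mem hn j)) t ht
      rw [inv_inv] at h3
      rw [← h3, key _ (hniT _ (N.pow_mem hn j) t ht)]
      congr 1
      rw [pow_succ]
      group
  obtain ⟨k, hk, hkT⟩ := hNq n hn
  obtain ⟨m, hm⟩ := hΦ ⟨f, hf⟩
  have hm' : f ^ q ^ m = 1 := congrArg Subtype.val hm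
  have hq : q.Prime := Fact.out
  have hcop : Nat.Coprime k (q ^ m) := (Nat.Coprime.pow_left m (hq.coprime_iff_not_dvd.mpr hk)).symm
  obtain ⟨u, hu⟩ : ∃ u : ℕ, k * u ≡ 1 [MOD q ^ m] := by
    rcases Nat.eq_zero_or_pos m with rfl | hm0
    · exact ⟨0, by rw [pow_zero]; exact Nat.modEq_one⟩
    · obtain ⟨u, hu⟩ := Nat.exists_mul_mod_eq_one_of_coprime hcop (Nat.one_lt_pow hm0.ne' hq.one_lt)
      refine ⟨u, ?_⟩
      unfold Nat.ModEq
      rw [hu.2, Nat.mod_eq_of_lt (Nat.one_lt_pow hm0.ne' hq.one_lt)]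
  have hfj : f ^ (k * u) = f := by
    have h3 : f ^ (k * u) = f ^ 1 := by
      rw [pow_eq_pow_iff_modEq]
      exact hu.of_dvd (orderOf_dvd_of_pow_eq_one hm')
    rw [h3, pow_one]
  have hcent : ∀ t ∈ T, (n ^ (k * u))⁻¹ * t * n ^ (k * u) = t := by
    intro t ht
    have h3 : Commute (n ^ k) t := by
      have h4 := hkT t ht
      exact mul_inv_eq_iff_eq_mul.mp h4
    have h5 : Commute (n ^ (k * u)) t := by
      rw [pow_mul]
      exact h3.pow_left u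
    rw [mul_assoc, ← h5.eq, inv_mul_cancel_left]
  have h6 := iter (k * u) t ht
  rw [hfj, hcent _ ht, ← ht', hF, hF] at h6
  exact hne h6

/-- **C6 : the Mackey lemma** (plan 3.2) -/
theorem mackey {p q : ℕ} [Fact p.Prime] [Fact q.Prime] {S : Type u} [Group S] [Finite S]
    {A Φ : Subgroup (MulAut S)} (hA : IsPGroup p A) (hΦ : IsPGroup q Φ) (hinv : InvHyp p A Φ)
    (B N T U : Subgroup S) (hBNB : ∀ g : S, ∃ b ∈ B, ∃ n ∈ N, ∃ b' ∈ B, g = b * n * b') (hTB : T ≤ B)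
    (_hUB : U ≤ B) (_hU : (U.subgroupOf B).Normal) (_hUT : U ⊔ T = B) (hNT : ∀ n ∈ N, ∀ t ∈ T, n * t * n⁻¹ ∈ T)
    (hNq : ∀ n ∈ N, ∃ k : ℕ, ¬ q ∣ k ∧ ∀ t ∈ T, n ^ k * t * (n ^ k)⁻¹ = t) (hpB : ¬ p ∣ B.index)
    (hAB : ∀ a ∈ A, B.map (a : MulAut S).toMonoidHom = B) {f : MulAut S} (hf : f ∈ Φ)
    (hfT : ∀ t ∈ T, f t ∈ T) (hfB : B.map (f : MulAut S).toMonoidHom = B) (_hfU : U.map (f : MulAut S).toMonoidHom = U)
    (hfN : ∀ n ∈ N, ∀ t ∈ T, f (n * t * n⁻¹) = n * f t * n⁻¹) (ψ : B →* ℂˣ)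
    (_hψU : ∀ b : B, (b : S) ∈ U → ψ b = 1) (hψA : ∀ a ∈ A, ∀ b b' : B, (b' : S) = a b → ψ b' = ψ b)
    {t t' : B} (ht : (t : S) ∈ T) (ht' : (t' : S) = f t) (hne : ψ t' ≠ ψ t) : False := by
  have hp : p.Prime := Fact.out
  have hdeg : ¬ p ∣ charDegree (fun b : B => ((ψ b : ℂˣ) : ℂ)) := by
    have h1 : charDegree (fun b : B => ((ψ b : ℂˣ) : ℂ)) = 1 := by
      unfold charDegree
      simp
    rw [h1, Nat.dvd_one]
    exact hp.one_lt.ne'
  have hEO := H866.OverPQ.exists_inv_over hA B hAB hpB ⟨_, Characters.Linear.isIrrCharacter_hom ψ⟩ hdeg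
    (fun a ha g h hgh => by
      show ((ψ h : ℂˣ) : ℂ) = ((ψ g : ℂˣ) : ℂ)
      rw [hψA a ha g h hgh])
  exact mackey_of hΦ hinv B N T hBNB hTB hNT hNq hf hfT hfB hfN ψ hEO ht ht' hne

end Cfsg.Agent.H239.PQMackey
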