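import Cfsg.Agent.H239.PQEngine
import Cfsg.Agent.H55.PQ.Red
import Cfsg.Agent.H967.FaTw
import Cfsg.Agent.LieRecognition.ReeFinal

/-!
# S4981, defining characteristic: `Sz(q)` (helper239)

`sfact_mat` : matrix groups whose automorphisms are inner times field automorphisms.
-/

set_option autoImplicit false

namespace Cfsg.Agent.H239.PQTwA

open Subgroup Cfsg Cfsg.Agent.H54.PQ Cfsg.Agent.H967.CopMat Cfsg.Agent.H967.CopSz Cfsg.Agent.H967.FaTw
  Cfsg.Agent.H55.PQ.Red Cfsg.Agent.H239.PQEngine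

universe u v w

theorem center_bot {S : Type u} [Group S] [IsSimpleGroup S] {a b : S} (h : a * b ≠ b * a) : center S = ⊥ := by
  rcases (inferInstance : (center S).Normal).eq_bot_or_eq_top with h0 | h0
  · exact h0
  · exfalso
    have h1 : b ∈ center S := by rw [h0]; exact mem_top b
    exact h (mem_center_iff.1 h1 a)

/-- matrix groups whose automorphisms are inner times field automorphisms -/
theorem sfact_mat {p q : ℕ} {ι : Type v} [Fintype ι] [DecidableEq ι] {F : Type u} [Field F] [Fintype F]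
    {G : Subgroup (GL ι F)} [Finite ↥G] (hG : Stab G) (hZ : center ↥G = ⊥) {r n : ℕ} [Fact r.Prime] [CharP F r]
    (hn : 1 ≤ n) (hF : Fintype.card F = r ^ n) (hOut : Nat.card (Cfsg.Out ↥G) = n)
    (h : ∀ ψ : MulAut ↥G, ∃ (g : ↥G) (σ : F ≃+* F), ψ = MulAut.conj g * fieldAut hG σ)
    (main : p.Prime → q.Prime → p ≠ q → ¬ q ∣ Nat.card ↥G → ∀ (A Φ : Subgroup (MulAut ↥G)) (φ : F ≃+* F), φ ≠ 1 →
      FSit p q (fieldAut hG) A Φ φ → InvHyp p A Φ → False) : SFact p q ↥G := by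
  have hfin : Finite (F ≃+* F) := Finite.of_injective (fun f : F ≃+* F => (f : F → F)) DFunLike.coe_injective
  have hcard : Nat.card (F ≃+* F) = n := Cfsg.Agent.Lib.FieldAutCard.card_ringAut hn hF
  obtain ⟨τ, hτ⟩ := exists_ringAut r n hF
  have hcyc : IsCyclic (F ≃+* F) := isCyclic_of_orderOf_eq_card τ (by rw [hτ, hcard])
  refine sfact_of_field hZ (solvable_of_conj_field hG h) (fieldAut hG) ?_ ?_ ?_ ?_
  · intro σ hσ _
    refine not_inner_of_conj_field hG hn hF hOut h σ ?_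
    rintro rfl
    rw [orderOf_one] at hσ
    exact Nat.not_prime_one hσ
  · intro k hk
    rwa [hcard, ← hOut]
  · intro k hk
    rwa [hcard, ← hOut]
  · intro hp hq hpq hqS A Φ φ hφ hs hi
    exact (main hp hq hpq hqS A Φ φ hφ hs hi).elim

/-- the group of field automorphisms is commutative -/
theorem ringAut_comm {F : Type u} [Field F] [Finite F] (σ τ : F ≃+* F) : σ * τ = τ * σ := by
  have : Fintype F := Fintype.ofFinite F
  obtain ⟨p, n, hp, hc, hn, hF⟩ := Cfsg.Agent.H967.CopChev.exists_char F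
  have : Fact p.Prime := ⟨hp⟩
  have hfin : Finite (F ≃+* F) := Finite.of_injective (fun f : F ≃+* F => (f : F → F)) DFunLike.coe_injective
  have hcard : Nat.card (F ≃+* F) = n := Cfsg.Agent.Lib.FieldAutCard.card_ringAut hn hF
  obtain ⟨τ₀, hτ⟩ := exists_ringAut p n hF
  have hcyc : IsCyclic (F ≃+* F) := isCyclic_of_orderOf_eq_card τ₀ (by rw [hτ, hcard])
  exact mul_comm' σ τ

/-- `pr_rank_one` for field automorphisms -/
theorem rank_one {p q : ℕ} [Fact p.Prime] [Fact q.Prime] {S : Type u} [Group S] [Finite S]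
    (hpq : p ≠ q) (hZ : center S = ⊥) (hqS : ¬ q ∣ Nat.card S) {F : Type v} [Field F] [Finite F]
    {Ψ : (F ≃+* F) →* MulAut S} {A Φ : Subgroup (MulAut S)} {φ : F ≃+* F} (hs : FSit p q Ψ A Φ φ)
    (hinv : InvHyp p A Φ) (U T : Subgroup S) (w : S)
    (hU : IsPGroup p U) (hT : ¬ p ∣ Nat.card T) (hTU : ∀ t ∈ T, ∀ u ∈ U, t * u * t⁻¹ ∈ U)
    (hTc : ∀ t ∈ T, ∀ t' ∈ T, t * t' = t' * t) (hw : ∀ t ∈ T, w * t * w⁻¹ ∈ T) (hww : w * w ∈ T)
    (hbr : ∀ g, (∃ u ∈ U, ∃ t ∈ T, g = u * t) ∨ (∃ u ∈ U, ∃ t ∈ T, ∃ u' ∈ U, g = u * t * w * u'))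
    (hne : ∃ u ∈ U, w * u * w⁻¹ ∉ U)
    (hγU : ∀ (γ : F ≃+* F), ∀ u ∈ U, Ψ γ u ∈ U)
    (hφT : ∀ t ∈ T, Ψ φ t ∈ T) (hφw : w⁻¹ * Ψ φ w ∈ T) {t : S} (ht : t ∈ T)
    (htp : ∀ (γ : F ≃+* F) (k : ℕ), orderOf γ = p ^ k → Ψ γ t = t) (htφ : Ψ φ t ≠ t) : False := by
  have hfin : Finite (F ≃+* F) := Finite.of_injective (fun f : F ≃+* F => (f : F → F)) DFunLike.coe_injective
  let _ : CommGroup (F ≃+* F) := { (inferInstance : Group (F ≃+* F)) with mul_comm := ringAut_comm }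
  refine pr_rank_one (Γ := F ≃+* F) hpq hZ hqS Ψ hs.pA hs.syl hs.a hinv hs.φ ?_ U T w hU hT hTU hTc hw hww hbr hne
    (fun γ _ _ => hγU γ) (hγU φ) hφT hφw ht htp htφ
  rw [hs.Φ]
  exact Subgroup.mem_zpowers _

/-- `pr_root` for field automorphisms -/
theorem root {p q : ℕ} [Fact p.Prime] [Fact q.Prime] {S : Type u} [Group S] [Finite S]
    (hpq : p ≠ q) (hZ : center S = ⊥) (hqS : ¬ q ∣ Nat.card S) {F : Type v} [Field F] [Finite F]
    {Ψ : (F ≃+* F) →* MulAut S} {A Φ : Subgroup (MulAut S)} {φ : F ≃+* F} (hs : FSit p q Ψ A Φ φ)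
    (hinv : InvHyp p A Φ) {ι : Type w} (R : ChevalleyStructure.AbstractBN.RootData S ι)
    (hU : IsPGroup p R.U) (hT : ¬ p ∣ Nat.card R.H) (hTc : ∀ t ∈ R.H, ∀ t' ∈ R.H, t * t' = t' * t)
    (hγU : ∀ (γ : F ≃+* F), ∀ u ∈ R.U, Ψ γ u ∈ R.U)
    (hφT : ∀ t ∈ R.H, Ψ φ t ∈ R.H) (hφn : ∀ i, (R.n i)⁻¹ * Ψ φ (R.n i) ∈ R.H) {t : S} (ht : t ∈ R.H)
    (htp : ∀ (γ : F ≃+* F) (k : ℕ), orderOf γ = p ^ k → Ψ γ t = t) (htφ : Ψ φ t ≠ t) : False := by
  have hfin : Finite (F ≃+* F) := Finite.of_injective (fun f : F ≃+* F => (f : F → F)) DFunLike.coe_injective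
  let _ : CommGroup (F ≃+* F) := { (inferInstance : Group (F ≃+* F)) with mul_comm := ringAut_comm }
  refine pr_root (Γ := F ≃+* F) hpq hZ hqS Ψ hs.pA hs.syl hs.a hinv hs.φ ?_ R hU hT hTc
    (fun γ _ _ => hγU γ) (hγU φ) hφT hφn ht htp htφ
  rw [hs.Φ]
  exact Subgroup.mem_zpowers _

/-- an element of `p`-power order in a group of order prime to `p` is trivial -/
theorem eq_one_of_not_dvd {Γ : Type v} [Group Γ] [Finite Γ] {p k : ℕ} (hp : p.Prime) (h : ¬ p ∣ Nat.card Γ) {γ : Γ}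
    (hγ : orderOf γ = p ^ k) : γ = 1 := by
  rcases Nat.eq_zero_or_pos k with rfl | hk
  · rwa [pow_zero, orderOf_eq_one_iff] at hγ
  · exfalso
    apply h
    refine dvd_trans ?_ (orderOf_dvd_natCard γ)
    rw [hγ]
    exact dvd_pow_self p hk.ne'

/-- a non-trivial automorphism moves a unit -/
theorem exists_moved_unit {F : Type u} [Field F] {φ : F ≃+* F} (h : φ ≠ 1) : ∃ k : Fˣ, φ (k : F) ≠ (k : F) := by
  by_contra hc
  push Not at hc
  apply h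
  ext x
  by_cases hx : x = 0
  · rw [hx, map_zero]; rfl
  · exact hc (Units.mk0 x hx)

/-- `φ ≠ 1` of `q`-power order moves an element fixed by the automorphisms of `p`-power order -/
theorem exists_moved {p q : ℕ} (hp : p.Prime) (hq : q.Prime) (hpq : p ≠ q) {F : Type u} [Field F] [Finite F]
    {φ : F ≃+* F} (h1 : φ ≠ 1) (hφ : ∃ k : ℕ, orderOf φ = q ^ k) :
    ∃ x : Fˣ, (∀ (σ : F ≃+* F) (k : ℕ), orderOf σ = p ^ k → σ (x : F) = x) ∧ φ (x : F) ≠ x := by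
  have hfin : Finite (F ≃+* F) := Finite.of_injective (fun f : F ≃+* F => (f : F → F)) DFunLike.coe_injective
  have : Fintype F := Fintype.ofFinite F
  obtain ⟨r, n, hr, hc, hn, hF⟩ := Cfsg.Agent.H967.CopChev.exists_char F
  have : Fact r.Prime := ⟨hr⟩
  have : Fact p.Prime := ⟨hp⟩
  have hcard : Nat.card (F ≃+* F) = n := Cfsg.Agent.Lib.FieldAutCard.card_ringAut hn hF
  obtain ⟨τ, hτ⟩ := exists_ringAut r n hF
  have hcyc : IsCyclic (F ≃+* F) := isCyclic_of_orderOf_eq_card τ (by rw [hτ, hcard])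
  let _ : CommGroup (F ≃+* F) := { (inferInstance : Group (F ≃+* F)) with mul_comm := ringAut_comm }
  -- a generator of the Sylow subgroup
  obtain ⟨P⟩ : Nonempty (Sylow p (F ≃+* F)) := inferInstance
  obtain ⟨⟨s, hsP⟩, hs⟩ := (inferInstance : IsCyclic ↥(P : Subgroup (F ≃+* F))).exists_generator
  have hall : ∀ (σ : F ≃+* F) (k : ℕ), orderOf σ = p ^ k → σ ∈ Subgroup.zpowers s := by
    intro σ k hk
    have h2 : IsPGroup p (Subgroup.zpowers σ) := IsPGroup.of_card (by rw [Nat.card_zpowers, hk])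
    obtain ⟨Q, hQ⟩ := h2.exists_le_sylow
    have h3 : σ ∈ (P : Subgroup (F ≃+* F)) := by
      have h4 : Q = P := by
        have : Subsingleton (Sylow p (F ≃+* F)) := by
          have := Sylow.unique_of_normal P inferInstance
          infer_instance
        exact Subsingleton.elim _ _
      rw [← h4]
      exact hQ (Subgroup.mem_zpowers σ)
    obtain ⟨j, hj⟩ := hs ⟨σ, h3⟩
    exact ⟨j, congrArg Subtype.val hj⟩
  have hsp : ∃ a, orderOf s = p ^ a := by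
    obtain ⟨a, ha⟩ := P.isPGroup' ⟨s, hsP⟩
    obtain ⟨b, _, hb⟩ := (Nat.dvd_prime_pow hp).1 (orderOf_dvd_of_pow_eq_one (congrArg Subtype.val ha : s ^ p ^ a = 1))
    exact ⟨b, hb⟩
  by_contra hcon
  push Not at hcon
  obtain ⟨a, ha⟩ := hsp
  obtain ⟨k, hk⟩ := hφ
  have hcop : Nat.Coprime (orderOf s) (orderOf φ) := by
    rw [ha, hk]
    exact Nat.Coprime.pow _ _ ((Nat.coprime_primes hp hq).2 hpq)
  have hord : orderOf (s * φ) = orderOf s * orderOf φ :=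
    (show Commute s φ from ringAut_comm s φ).orderOf_mul_eq_mul_orderOf_of_coprime hcop
  have h2 : ∀ x : F, s x = x → (s * φ) x = x := by
    intro x hx
    by_cases h0 : x = 0
    · rw [h0, map_zero]
    · have h3 : φ x = x := hcon (Units.mk0 x h0) (fun σ j hσ => by
        obtain ⟨i, hi⟩ := hall σ j hσ
        have h4 : s ∈ MulAction.stabilizer (F ≃+* F) x := hx
        have h5 : σ ∈ MulAction.stabilizer (F ≃+* F) x := by
          rw [← hi]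
          exact Subgroup.zpow_mem _ h4 i
        exact h5)
      show s (φ x) = x
      rw [h3, hx]
  have hle : Nat.card ↥(Fx s) ≤ Nat.card ↥(Fx (s * φ)) := by
    refine Nat.card_le_card_of_injective (fun x : ↥(Fx s) => (⟨x.1, mem_Fx.2 (h2 x.1 (mem_Fx.1 x.2))⟩ : ↥(Fx (s * φ)))) ?_
    intro x y hxy
    have hxy' : x.1 = y.1 := congrArg (fun z : ↥(Fx (s * φ)) => z.1) hxy
    exact Subtype.ext hxy'
  have e1 := card_Fx s
  have e2 := card_Fx (s * φ)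
  rw [hord] at e2
  have h3 : 1 < Nat.card ↥(Fx (s * φ)) := Finite.one_lt_card
  have h4 : Nat.card ↥(Fx (s * φ)) ^ (orderOf s * orderOf φ) ≤ Nat.card ↥(Fx (s * φ)) ^ orderOf s := by
    rw [← e2, e1]
    exact Nat.pow_le_pow_left hle _
  have h5 := (Nat.pow_le_pow_iff_right h3).1 h4
  have h6 : 0 < orderOf s := orderOf_pos s
  have h7 : orderOf φ ≠ 1 := fun h => h1 (orderOf_eq_one_iff.1 h)
  have h8 : 0 < orderOf φ := orderOf_pos φ
  have h9 : 2 ≤ orderOf φ := by omega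
  nlinarith

section Sz

open Cfsg.Agent.LieRecognition.SzMatrix Cfsg.Agent.H70.SzOut

/-- **`Sz(q)`, characteristic 2** -/
theorem sz_two {q : ℕ} {F : Type} [Field F] [Fintype F] {m : ℕ} (hm : 1 ≤ m) (hF : Fintype.card F = 2 ^ (2 * m + 1))
    [IsSimpleGroup ↥(Cfsg.Lie.Sz F (2 ^ (m + 1)))] : SFact 2 q ↥(Cfsg.Lie.Sz F (2 ^ (m + 1))) := by
  have := Cfsg.Agent.H967.CopSz.two_prime
  have hc : CharP F 2 := charP_of_card Nat.prime_two hF
  set H := good hF with hH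
  have hne : ∃ u ∈ H.unip, H.w * u * H.w⁻¹ ∉ H.unip := by
    refine ⟨H.u 0 1, H.u_mem_unip 0 1, fun h => ?_⟩
    have h1 : H.u 0 1 = 1 := by
      refine H.inter_trivial _ (H.u_mem_unip 0 1) ?_
      rw [H.w_inv] at h ⊢
      exact H.unip_le_borel h
    rw [← H.u_zero] at h1
    exact one_ne_zero (H.u_inj h1).2
  have hZ : center ↥(Cfsg.Lie.Sz F (2 ^ (m + 1))) = ⊥ := by
    obtain ⟨u, hu, hu'⟩ := hne
    refine center_bot (a := H.w) (b := u) (fun h => hu' ?_)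
    rw [h, mul_inv_cancel_right]
    exact hu
  have h : ∀ ψ : MulAut ↥(Cfsg.Lie.Sz F (2 ^ (m + 1))), ∃ (g : ↥(Cfsg.Lie.Sz F (2 ^ (m + 1)))) (σ : F ≃+* F),
      ψ = MulAut.conj g * Cfsg.Agent.H967.CopMat.fieldAut (stab_sz hF) σ := fun ψ => by
    obtain ⟨g, σ, h⟩ := Cfsg.Agent.H70.SzAutThm.exists_conj_field hm hF ψ
    exact ⟨g, σ, h⟩
  refine sfact_mat (stab_sz hF) hZ (by omega) hF (S2126.result hm hF) h ?_
  intro _ hq hpq hqS A Φ φ hφ hs hinv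
  have : Fact q.Prime := ⟨hq⟩
  have hfin : Finite (F ≃+* F) := Finite.of_injective (fun f : F ≃+* F => (f : F → F)) DFunLike.coe_injective
  have hcard : Nat.card (F ≃+* F) = 2 * m + 1 := Cfsg.Agent.Lib.FieldAutCard.card_ringAut (by omega) hF
  obtain ⟨k, hk⟩ := exists_moved_unit hφ
  -- the torus
  let T : Subgroup ↥(Cfsg.Lie.Sz F (2 ^ (m + 1))) :=
    { carrier := Set.range H.d
      mul_mem' := by
        rintro _ _ ⟨a, rfl⟩ ⟨b, rfl⟩
        exact ⟨a * b, (H.d_mul a b).symm⟩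
      one_mem' := ⟨1, H.d_one⟩
      inv_mem' := by
        rintro _ ⟨a, rfl⟩
        exact ⟨a⁻¹, (H.d_inv a).symm⟩ }
  have hfu : ∀ (σ : F ≃+* F) (a b : F), Cfsg.Agent.H967.CopMat.fieldAut (stab_sz hF) σ (H.u a b) = H.u (σ a) (σ b) :=
    fun σ a b => fieldAut_u H σ a b
  have hfd : ∀ (σ : F ≃+* F) (a : Fˣ), Cfsg.Agent.H967.CopMat.fieldAut (stab_sz hF) σ (H.d a) =
      H.d (Units.map (σ : F →* F) a) := fun σ a => fieldAut_d H σ a
  have hfw : ∀ (σ : F ≃+* F), Cfsg.Agent.H967.CopMat.fieldAut (stab_sz hF) σ H.w = H.w := fun σ => fieldAut_w H σ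
  have hTcard : Nat.card T = Nat.card Fˣ := (Nat.card_congr (Equiv.ofInjective H.d (fun a b => H.d_inj))).symm
  refine rank_one (p := 2) hpq hZ hqS hs hinv H.unip T H.w ?_ ?_ ?_ ?_ ?_ ?_ ?_ hne ?_ ?_ ?_ (t := H.d k) ⟨k, rfl⟩ ?_ ?_
  · refine IsPGroup.of_card (n := (2 * m + 1) * 2) ?_
    rw [H.card_unip, Nat.card_eq_fintype_card, hF, pow_mul]
  · rw [hTcard, Nat.card_units, Nat.card_eq_fintype_card, hF]
    have h1 : Even (2 ^ (2 * m + 1)) := (even_two.pow_of_ne_zero (by omega))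
    have h2 : 1 ≤ 2 ^ (2 * m + 1) := Nat.one_le_two_pow
    intro h3
    obtain ⟨a, ha⟩ := h1
    omega
  · rintro _ ⟨a, rfl⟩ u hu
    exact H.borel_normalizes _ (H.d_mem_borel a) u hu
  · rintro _ ⟨a, rfl⟩ _ ⟨b, rfl⟩
    rw [H.d_mul, H.d_mul, mul_comm]
  · rintro _ ⟨a, rfl⟩
    exact ⟨a⁻¹, by rw [H.w_mul_d, mul_inv_cancel_right]⟩
  · rw [H.w_mul_w]
    exact T.one_mem
  · intro g
    by_cases hg : g ∈ H.borel
    · obtain ⟨a, b, c, rfl⟩ := (H.mem_borel_iff' g).1 hg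
      exact Or.inl ⟨H.u a b, H.u_mem_unip a b, H.d c, ⟨c, rfl⟩, rfl⟩
    · right
      obtain ⟨s, hs, h1⟩ := H.bruhat_sz g hg
      obtain ⟨a, b, c, h2⟩ := (H.mem_borel_iff' _).1 h1
      have h3 : g = s * H.w * (H.u a b * H.d c) := by rw [← h2]; group
      -- `u d = d (d⁻¹ u d)`
      refine ⟨s, hs, H.d c⁻¹, ⟨c⁻¹, rfl⟩, H.d c⁻¹ * H.u a b * (H.d c⁻¹)⁻¹,
        H.borel_normalizes _ (H.d_mem_borel _) _ (H.u_mem_unip _ _), ?_⟩
      have h4 : s * H.d c⁻¹ * H.w * (H.d c⁻¹ * H.u a b * (H.d c⁻¹)⁻¹) =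
          s * (H.d c⁻¹ * (H.w * H.d c⁻¹)) * H.u a b * (H.d c⁻¹)⁻¹ := by group
      rw [h4, H.w_mul_d, inv_inv, ← mul_assoc (H.d c⁻¹), H.d_mul, inv_mul_cancel, H.d_one, one_mul, H.d_inv, inv_inv, h3]
      group
  · intro γ u hu
    obtain ⟨a, b, rfl⟩ := (H.mem_unip_iff u).1 hu
    rw [hfu]
    exact H.u_mem_unip _ _
  · rintro _ ⟨a, rfl⟩
    rw [hfd]
    exact ⟨_, rfl⟩
  · rw [hfw, inv_mul_cancel]
    exact T.one_mem
  · intro γ j hγ
    have h1 : γ = 1 := eq_one_of_not_dvd Nat.prime_two (by rw [hcard]; omega) hγ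
    rw [h1, map_one, MulAut.one_apply]
  · rw [hfd]
    intro h1
    exact hk (congrArg Units.val (H.d_inj h1))

/-- **`Sz(q)`, `p = 2`** -/
theorem row_sz_def {q : ℕ} {G : Type u} [Group G] [Finite G] [IsSimpleGroup G] (hG : Lie.IsoSuzuki G) :
    SFact 2 q G := by
  obtain ⟨K, _, _, m, hm, hK, ⟨e⟩⟩ := hG
  have hfin : Finite ↥(Cfsg.Lie.Sz K (2 ^ (m + 1))) := Finite.of_equiv G e.toEquiv
  have hsim : IsSimpleGroup ↥(Cfsg.Lie.Sz K (2 ^ (m + 1))) := MulEquiv.isSimpleGroup e.symm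
  exact sfact_congr e (sz_two hm hK)

end Sz

section Ree

open Cfsg.Lie Cfsg.Agent.LieRecognition

/-- **`²G₂(q)`, characteristic 3** -/
theorem ree_three {q : ℕ} {K : Type} [Field K] [Fintype K] {m : ℕ} (hm : 1 ≤ m) (hK : Fintype.card K = 3 ^ (2 * m + 1))
    [IsSimpleGroup ↥(twistedG2 K (3 ^ m))] : SFact 3 q ↥(twistedG2 K (3 ^ m)) := by
  have := Cfsg.Agent.H967.CopSz.three_prime
  have hc : CharP K 3 := charP_of_card Nat.prime_three hK
  have D := ReeFinal.data hK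
  set u := ReeData.U (K := K) m with hu
  set d := ReeData.h hK with hd
  set w := ReeData.n hK with hw
  have hu1 : u 0 0 0 = 1 := D.U_zero
  have hd1 : d 1 = 1 := D.h_one
  have hfu : ∀ (σ : K ≃+* K) (a b c : K),
      Cfsg.Agent.H967.CopMat.fieldAut (stab_g2 _) σ (u a b c) = u (σ a) (σ b) (σ c) :=
    fun σ a b c => Subtype.ext (S2127.glE_wU σ _ a b c)
  have hfd : ∀ (σ : K ≃+* K) (a : Kˣ), Cfsg.Agent.H967.CopMat.fieldAut (stab_g2 _) σ (d a) =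
      d (Units.mapEquiv σ.toMulEquiv a) := fun σ a => Subtype.ext (S2127.glE_tU σ _ a)
  have hfw : ∀ (σ : K ≃+* K), Cfsg.Agent.H967.CopMat.fieldAut (stab_g2 _) σ w = w :=
    fun σ => Subtype.ext (S2127.glE_nU σ)
  have hdi : ∀ a, d a⁻¹ = (d a)⁻¹ := fun a => D.h_inv a
  -- the torus
  let T : Subgroup ↥(twistedG2 K (3 ^ m)) :=
    { carrier := Set.range d
      mul_mem' := by
        rintro _ _ ⟨a, rfl⟩ ⟨b, rfl⟩
        exact ⟨a * b, D.h_mul a b⟩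
      one_mem' := ⟨1, hd1⟩
      inv_mem' := by
        rintro _ ⟨a, rfl⟩
        exact ⟨a⁻¹, hdi a⟩ }
  -- the unipotent subgroup
  let U : Subgroup ↥(twistedG2 K (3 ^ m)) :=
    { carrier := Set.range (fun x : K × K × K => u x.1 x.2.1 x.2.2)
      mul_mem' := by
        rintro _ _ ⟨a, rfl⟩ ⟨b, rfl⟩
        exact ⟨⟨_, _, _⟩, (D.U_mul _ _ _ _ _ _).symm⟩
      one_mem' := ⟨⟨0, 0, 0⟩, hu1⟩
      inv_mem' := by
        rintro _ ⟨⟨a, b, c⟩, rfl⟩
        obtain ⟨a', b', c', h, _⟩ := ReeData.U_mul_inv (hK := hK) 0 0 0 a b c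
        refine ⟨⟨a', b', c'⟩, ?_⟩
        show u a' b' c' = (u a b c)⁻¹
        have h' : (u a b c)⁻¹ * u 0 0 0 = u a' b' c' := h
        rw [← h', hu1, mul_one] }
  have huU : ∀ a b c, u a b c ∈ U := fun a b c => ⟨⟨a, b, c⟩, rfl⟩
  have hui : ∀ a b c a' b' c', u a b c = u a' b' c' → a = a' ∧ b = b' ∧ c = c' := by
    intro a b c a' b' c' h
    have h2 := D.inj₁ a b c 1 a' b' c' 1 (by rw [h])
    exact ⟨h2.1, h2.2.1, h2.2.2.1⟩
  have hdj : Function.Injective d := by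
    intro a b h
    have h2 := D.inj₁ 0 0 0 a 0 0 0 b (by rw [h])
    exact h2.2.2.2
  have hTcard : Nat.card T = Nat.card Kˣ := (Nat.card_congr (Equiv.ofInjective d hdj)).symm
  have hUcard : Nat.card U = Nat.card K ^ 3 := by
    have h1 : Function.Injective (fun x : K × K × K => u x.1 x.2.1 x.2.2) := by
      rintro ⟨a, b, c⟩ ⟨a', b', c'⟩ h
      obtain ⟨h2, h3, h4⟩ := hui _ _ _ _ _ _ h
      exact Prod.ext h2 (Prod.ext h3 h4)
    have h2 : Nat.card U = Nat.card (K × K × K) := (Nat.card_congr (Equiv.ofInjective _ h1)).symm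
    rw [h2, Nat.card_prod, Nat.card_prod]
    ring
  have hwi : w⁻¹ = w := inv_eq_of_mul_eq_one_right D.n_n
  have hne : ∃ x ∈ U, w * x * w⁻¹ ∉ U := by
    refine ⟨u 0 1 0, huU 0 1 0, fun h => ?_⟩
    obtain ⟨⟨a, b, c⟩, h⟩ := h
    have h1 : u a b c = w * u 0 1 0 * w⁻¹ := h
    rw [hwi, D.n_U] at h1
    refine D.ne a b c 1 0 (-1) 0 1 0 (-1) 0 ?_
    rw [hd1, mul_one, mul_one]
    exact h1
  have hZ : center ↥(twistedG2 K (3 ^ m)) = ⊥ := by
    obtain ⟨u, hu, hu'⟩ := hne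
    refine center_bot (a := w) (b := u) (fun h => hu' ?_)
    rw [h, mul_inv_cancel_right]
    exact hu
  have h : ∀ ψ : MulAut ↥(twistedG2 K (3 ^ m)), ∃ (g : ↥(twistedG2 K (3 ^ m))) (σ : K ≃+* K),
      ψ = MulAut.conj g * Cfsg.Agent.H967.CopMat.fieldAut (stab_g2 _) σ := fun ψ => by
    obtain ⟨g, σ, h⟩ := Cfsg.Agent.H71.FldAut.ree_aut hm hK ψ
    exact ⟨g, σ, h⟩
  refine sfact_mat (stab_g2 _) hZ (by omega) hK (S2127.result hm hK) h ?_
  intro hp hq hpq hqS A Φ φ hφ hs hinv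
  have : Fact q.Prime := ⟨hq⟩
  obtain ⟨k, hk, hk'⟩ := exists_moved hp hq hpq hφ hs.φ
  have hTU : ∀ t ∈ T, ∀ x ∈ U, t * x * t⁻¹ ∈ U := by
    rintro _ ⟨a, rfl⟩ _ ⟨⟨x, y, z⟩, rfl⟩
    show d a * u x y z * (d a)⁻¹ ∈ U
    rw [D.h_U, mul_inv_cancel_right]
    exact huU _ _ _
  refine rank_one (p := 3) hpq hZ hqS hs hinv U T w ?_ ?_ hTU ?_ ?_ ?_ ?_ hne ?_ ?_ ?_ (t := d k) ⟨k, rfl⟩ ?_ ?_
  · refine IsPGroup.of_card (n := (2 * m + 1) * 3) ?_
    rw [hUcard, Nat.card_eq_fintype_card, hK, pow_mul]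
  · rw [hTcard, Nat.card_units, Nat.card_eq_fintype_card, hK]
    have h1 : 3 ∣ 3 ^ (2 * m + 1) := dvd_pow_self 3 (by omega)
    have h2 : 1 ≤ 3 ^ (2 * m + 1) := Nat.one_le_pow _ _ (by norm_num)
    intro h3
    obtain ⟨a, ha⟩ := h1
    omega
  · rintro _ ⟨a, rfl⟩ _ ⟨b, rfl⟩
    rw [← D.h_mul, ← D.h_mul, mul_comm]
  · rintro _ ⟨a, rfl⟩
    exact ⟨a⁻¹, by rw [D.n_h, mul_inv_cancel_right]⟩
  · rw [D.n_n]
    exact T.one_mem
  · intro g
    rcases D.bruhat g with ⟨a, b, c, k, rfl⟩ | ⟨a, b, c, k, a', b', c', rfl⟩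
    · exact Or.inl ⟨_, huU a b c, _, ⟨k, rfl⟩, rfl⟩
    · exact Or.inr ⟨_, huU a b c, _, ⟨k, rfl⟩, _, huU a' b' c', rfl⟩
  · rintro γ _ ⟨⟨a, b, c⟩, rfl⟩
    show Cfsg.Agent.H967.CopMat.fieldAut (stab_g2 _) γ (u a b c) ∈ U
    rw [hfu]
    exact huU _ _ _
  · rintro _ ⟨a, rfl⟩
    rw [hfd]
    exact ⟨_, rfl⟩
  · rw [hfw, inv_mul_cancel]
    exact T.one_mem
  · intro γ j hγ
    rw [hfd]
    congr 1
    exact Units.ext (hk γ j hγ)
  · rw [hfd]
    intro h1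
    exact hk' (congrArg Units.val (hdj h1))

/-- **`²G₂(q)`, `p = 3`** -/
theorem row_ree_def {q : ℕ} {G : Type u} [Group G] [Finite G] [IsSimpleGroup G] (hG : Lie.IsoRee G) :
    SFact 3 q G := by
  obtain ⟨K, _, _, m, hm, hK, ⟨e⟩⟩ := hG
  have hfin : Finite ↥(twistedG2 K (3 ^ m)) := Finite.of_equiv G e.toEquiv
  have hsim : IsSimpleGroup ↥(twistedG2 K (3 ^ m)) := MulEquiv.isSimpleGroup e.symm
  exact sfact_congr e (ree_three hm hK)

end Ree

end Cfsg.Agent.H239.PQTwA
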