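import Cfsg.Agent.H239.PQTwA
import Cfsg.Agent.ChevalleyStructure.TwF4.BN
import Cfsg.Agent.ChevalleyStructure.TwF4.TwGen
import Cfsg.Agent.ChevalleyStructure.TwF4.TorusFix
import Cfsg.Agent.S2128
import Cfsg.Agent.S1027

/-!
# S4981, defining characteristic: `²F₄(q)` (helper239)
-/

set_option autoImplicit false

namespace Cfsg.Agent.H239.PQTwB

open Subgroup Cfsg Cfsg.Lie Cfsg.Agent.H54.PQ Cfsg.Agent.H967.CopMat Cfsg.Agent.H967.CopSz Cfsg.Agent.H967.FaTw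
  Cfsg.Agent.H55.PQ.Red Cfsg.Agent.H239.PQEngine Cfsg.Agent.H239.PQTwA
open Cfsg.Agent.ChevalleyStructure Cfsg.Agent.ChevalleyStructure.TwF4.BN Cfsg.Agent.ChevalleyStructure.TwF4.Rel
  Cfsg.Agent.ChevalleyStructure.TwF4.TwistedFix
open Cfsg.Agent.ChevalleyStructure.TwF4.Torus (T chi chiIdx chiL coe_T T_inr)
open Cfsg.Agent.ChevalleyStructure.TwF4.TwGen (tc chi_tc_24 n1_eq n2_eq)
open Cfsg.Agent.ChevalleyStructure.TwF4.TorusFix (mem_iff card_H1 T_rt rt)
open Cfsg.Agent.ChevStructure.FieldMap (x_map)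

universe u

section map

variable {K : Type*} [Field K] [CharP K 2] (σ : K ≃+* K)

theorem map_X (r : ℕ) (t : K) : Matrix.GeneralLinearGroup.map (σ : K →+* K) (X r t) = X r (σ t) := by
  apply Units.ext
  show ((X r t : GL chevF4.Idx K) : Matrix chevF4.Idx chevF4.Idx K).map (σ : K →+* K) = _
  rw [coe_X, coe_X]
  exact x_map chevF4 (σ : K →+* K) r t

theorem map_pos {g : GL chevF4.Idx K} (hg : g ∈ chevF4.posUnipotent K) :
    Matrix.GeneralLinearGroup.map (σ : K →+* K) g ∈ chevF4.posUnipotent K := by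
  have h : chevF4.posUnipotent K ≤ (chevF4.posUnipotent K).comap (Matrix.GeneralLinearGroup.map (σ : K →+* K)) := by
    conv_lhs => rw [ChevalleyDatum.posUnipotent]
    rw [Subgroup.closure_le]
    rintro g ⟨r, t, hr, hg⟩
    refine Subgroup.subset_closure ⟨r, σ t, hr, ?_⟩
    show (g : Matrix chevF4.Idx chevF4.Idx K).map (σ : K →+* K) = _
    rw [hg]
    exact x_map chevF4 (σ : K →+* K) r t
  exact h hg

theorem chiIdx_map (c : Fin 4 → Kˣ) (j : chevF4.Idx) :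
    ((chiIdx (fun i => Units.map (σ : K →* K) (c i)) j : Kˣ) : K) = σ (chiIdx c j : Kˣ) := by
  unfold chiIdx chiL
  simp only [Units.val_mul, Units.val_zpow_eq_zpow_val, map_mul, map_zpow₀]
  rfl

theorem map_T (c : Fin 4 → Kˣ) : Matrix.GeneralLinearGroup.map (σ : K →+* K) (T c) =
    T (fun i => Units.map (σ : K →* K) (c i)) := by
  apply Units.ext
  show ((T c : GL chevF4.Idx K) : Matrix chevF4.Idx chevF4.Idx K).map (σ : K →+* K) = _
  rw [coe_T, coe_T, Matrix.diagonal_map (map_zero _)]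
  congr 1
  funext j
  exact (chiIdx_map σ c j).symm

theorem map_diag {g : GL chevF4.Idx K} (hg : g ∈ chevF4.diagonalSubgroup K) :
    Matrix.GeneralLinearGroup.map (σ : K →+* K) g ∈ chevF4.diagonalSubgroup K := by
  rw [TwF4.Torus.diagonal_eq_range] at hg ⊢
  obtain ⟨c, rfl⟩ := hg
  exact ⟨_, (map_T σ c).symm⟩

theorem map_n1 : Matrix.GeneralLinearGroup.map (σ : K →+* K) (n1 K) = n1 K := by
  rw [n1_eq]
  simp only [map_mul, map_X, map_one]

theorem map_n2 : Matrix.GeneralLinearGroup.map (σ : K →+* K) (n2 K) = n2 K := by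
  rw [n2_eq]
  simp only [map_mul, map_X, map_one]

end map

/-- **`²F₄(q)`, characteristic 2** -/
theorem tf4_two {q : ℕ} {K : Type} [Field K] [Fintype K] {m : ℕ} (hm : 1 ≤ m) (hK : Fintype.card K = 2 ^ (2 * m + 1))
    [IsSimpleGroup ↥(twistedF4 K (2 ^ m))] : SFact 2 q ↥(twistedF4 K (2 ^ m)) := by
  have := Cfsg.Agent.H967.CopSz.two_prime
  have hc : CharP K 2 := charP_of_card Nat.prime_two hK
  obtain ⟨φ₀, hφ₀⟩ := exists_rln hK
  obtain ⟨R, hRU, hRH, hRn⟩ : ∃ R : AbstractBN.RootData ↥(twistedF4 K (2 ^ m)) (Fin 2),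
      (∀ u : ↥(twistedF4 K (2 ^ m)), u ∈ R.U ↔ (u : GL chevF4.Idx K) ∈ chevF4.posUnipotent K) ∧
      (∀ u : ↥(twistedF4 K (2 ^ m)), u ∈ R.H ↔ (u : GL chevF4.Idx K) ∈ chevF4.diagonalSubgroup K) ∧
      (∀ i, (R.n i : GL chevF4.Idx K) = nn K i) :=
    ⟨(twistedData hφ₀).toRootData, fun _ => Iff.rfl, fun _ => Iff.rfl, fun _ => rfl⟩
  have hfin : Finite (K ≃+* K) := Finite.of_injective (fun f : K ≃+* K => (f : K → K)) DFunLike.coe_injective
  have hcard : Nat.card (K ≃+* K) = 2 * m + 1 := Cfsg.Agent.Lib.FieldAutCard.card_ringAut (by omega) hK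
  -- `n₀` and `U` do not commute
  have hZ : center ↥(twistedF4 K (2 ^ m)) = ⊥ := by
    obtain ⟨x, hx, hn⟩ := R.not_le 0
    refine center_bot (a := R.n 0) (b := x) (fun h => hn ?_)
    rw [h, mul_inv_cancel_right]
    exact Subgroup.mem_sup_left hx
  have h : ∀ ψ : MulAut ↥(twistedF4 K (2 ^ m)), ∃ (g : ↥(twistedF4 K (2 ^ m))) (σ : K ≃+* K),
      ψ = MulAut.conj g * fieldAut (stab_f4 _) σ := fun ψ => by
    obtain ⟨g, σ, h⟩ := Cfsg.Agent.H71.FldAut.twF4_aut hm hK ψ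
    exact ⟨g, σ, h⟩
  refine sfact_mat (stab_f4 _) hZ (by omega) hK (S2128.result hm hK) h ?_
  intro hp hq hpq hqS A Φ φ hφ hs hinv
  have : Fact q.Prime := ⟨hq⟩
  obtain ⟨k, hk⟩ := exists_moved_unit hφ
  have htm : T (tc (2 ^ m) k 1) ∈ chevF4.diagonalSubgroup K ⊓ twistedF4 K (2 ^ m) := (mem_iff hK _).2 ⟨k, 1, rfl⟩
  have hcardH : Nat.card R.H = (2 ^ (2 * m + 1) - 1) ^ 2 := by
    rw [← card_H1 hK]
    exact Nat.card_congr
      { toFun := fun x => ⟨x.1.1, (hRH x.1).1 x.2, x.1.2⟩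
        invFun := fun x => ⟨⟨x.1, x.2.2⟩, (hRH _).2 x.2.1⟩
        left_inv := fun x => rfl
        right_inv := fun x => rfl }
  refine root (p := 2) hpq hZ hqS hs hinv R ?_ ?_ ?_ ?_ ?_ ?_ (t := ⟨T (tc (2 ^ m) k 1), htm.2⟩)
    ((hRH _).2 htm.1) ?_ ?_
  · have h1 : IsPGroup 2 ↥(chevF4.posUnipotent K) := by
      refine IsPGroup.of_card (n := (2 * m + 1) * (chevF4.nroots / 2)) ?_
      rw [Cfsg.Agent.S1027.result chevF4 (by simp), hK, pow_mul]
    intro g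
    obtain ⟨j, hj⟩ := h1 ⟨g.1.1, (hRU _).1 g.2⟩
    have hj' : (g.1.1 : GL chevF4.Idx K) ^ 2 ^ j = 1 := congrArg Subtype.val hj
    refine ⟨j, Subtype.ext (Subtype.ext ?_)⟩
    rw [SubmonoidClass.coe_pow, SubmonoidClass.coe_pow, hj']
    rfl
  · rw [hcardH]
    intro h1
    have h2 := Nat.prime_two.dvd_of_dvd_pow h1
    have h3 : 2 ∣ 2 ^ (2 * m + 1) := dvd_pow_self 2 (by omega)
    have h4 : 1 ≤ 2 ^ (2 * m + 1) := Nat.one_le_two_pow
    omega
  · intro t ht t' ht'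
    rw [hRH, TwF4.Torus.diagonal_eq_range] at ht ht'
    obtain ⟨c, hc⟩ := ht
    obtain ⟨c', hc'⟩ := ht'
    apply Subtype.ext
    show (t : GL chevF4.Idx K) * t' = t' * t
    rw [← hc, ← hc', ← map_mul, ← map_mul, mul_comm]
  · intro γ u hu
    exact (hRU _).2 (map_pos γ ((hRU _).1 hu))
  · intro t ht
    exact (hRH _).2 (map_diag φ ((hRH _).1 ht))
  · intro i
    have h1 : fieldAut (stab_f4 _) φ (R.n i) = R.n i := by
      apply Subtype.ext
      rw [coe_fieldAut, hRn]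
      fin_cases i
      · exact map_n1 φ
      · exact map_n2 φ
    rw [h1, inv_mul_cancel]
    exact R.H.one_mem
  · intro γ j hγ
    have h1 : γ = 1 := eq_one_of_not_dvd Nat.prime_two (by rw [hcard]; omega) hγ
    rw [h1, map_one, MulAut.one_apply]
  · intro h1
    have h2 := congrArg (fun g : ↥(twistedF4 K (2 ^ m)) =>
      ((g : GL chevF4.Idx K) : Matrix chevF4.Idx chevF4.Idx K) (rt 24) (rt 24)) h1
    have h3 : φ ((chi (tc (2 ^ m) k 1) 24 : Kˣ) : K) = ((chi (tc (2 ^ m) k 1) 24 : Kˣ) : K) := by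
      rw [← T_rt (tc (2 ^ m) k 1) (r := 24) (by norm_num)]
      exact h2
    rw [chi_tc_24, one_pow, mul_one, Units.val_inv_eq_inv_val, map_inv₀] at h3
    exact hk (inv_injective h3)

/-- **`²F₄(q)`, `p = 2`** -/
theorem row_tf4_def {q : ℕ} {G : Type u} [Group G] [Finite G] [IsSimpleGroup G] (hG : Lie.Iso2F4 G) :
    SFact 2 q G := by
  obtain ⟨K, _, _, m, hm, hK, ⟨e⟩⟩ := hG
  have hfin : Finite ↥(twistedF4 K (2 ^ m)) := Finite.of_equiv G e.toEquiv
  have hsim : IsSimpleGroup ↥(twistedF4 K (2 ^ m)) := MulEquiv.isSimpleGroup e.symm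
  exact sfact_congr e (tf4_two hm hK)

end Cfsg.Agent.H239.PQTwB
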