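import Cfsg.Agent.H25.Cov.OoddC
import Cfsg.Agent.H558.Cov.OgO
import Cfsg.Agent.H906.Cov.Num
import Cfsg.Agent.H424.Spr.Two
import Cfsg.Agent.S0295

/-!
# S3938, `Ω_{2m+1}(q)`, `q` odd, `m ≥ 5` (helper239): `s = neg m + 1`, only the stabiliser of the nonsingular line
-/

set_option autoImplicit false

namespace Cfsg.Agent.H239.SprOodd

open Cfsg Cfsg.Geo Module Cfsg.Agent.H278.Cov Cfsg.Agent.H25.Cov
open Cfsg.Agent.H424.Spr (Spr spr_of_one_up)
open LieClassical.QuadForms (oddForm)

universe u

/-- the stabiliser in `Ω` of a subspace -/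
noncomputable def St {F : Type u} [Field F] [Fintype F] {m : ℕ} (L : Submodule F (Unit ⊕ (Fin m ⊕ Fin m) → F)) :
    Subgroup (Omega F (quadFormOdd m F)) where
  carrier := {y | ∀ v ∈ L, act y v ∈ L}
  one_mem' := by
    intro v hv
    have h : act (1 : Omega F (quadFormOdd m F)) = 1 := by
      have h1 := act_mul (1 : Omega F (quadFormOdd m F)) 1
      rw [one_mul] at h1
      exact (mul_eq_left.1 h1.symm)
    rw [h]
    exact hv
  mul_mem' := by
    intro x y hx hy v hv
    rw [act_mul]
    exact hx _ (hy v hv)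
  inv_mem' := by
    intro x hx v hv
    rw [act_inv]
    -- `act x` permutes `L`
    have hsurj : L.map (act x : (Unit ⊕ (Fin m ⊕ Fin m) → F) →ₗ[F] (Unit ⊕ (Fin m ⊕ Fin m) → F)) = L := by
      apply Submodule.eq_of_le_of_finrank_eq
      · rintro y ⟨z, hz, rfl⟩
        exact hx z hz
      · exact LinearEquiv.finrank_map_eq (act x) L
    rw [← hsurj] at hv
    obtain ⟨z, hz, rfl⟩ := hv
    have h1 : (act x)⁻¹ (act x z) = z := by
      rw [← LinearEquiv.mul_apply, inv_mul_cancel]
      rfl
    show (act x)⁻¹ (act x z) ∈ L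
    rw [h1]
    exact hz

theorem mem_St {F : Type u} [Field F] [Fintype F] {m : ℕ} {L : Submodule F (Unit ⊕ (Fin m ⊕ Fin m) → F)}
    {y : Omega F (quadFormOdd m F)} : y ∈ St L ↔ ∀ v ∈ L, act y v ∈ L := Iff.rfl

/-- **Ω_{2m+1}(q), `q` odd, `m ≥ 5`** -/
theorem spr_oodd (hP : H659.CovCore.S5948Stmt.{u}) {F : Type u} [Field F] [Fintype F] {m : ℕ} (hm : 5 ≤ m)
    (hodd' : Odd (Fintype.card F)) : Spr (POmega F (quadFormOdd m F)) := by
  have hog : OgO.{u} := fun hQ _ hle hne _ hg hn => H558.Cov.og_o hP hQ hle hne hg hn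
  have hodd : Odd (Nat.card F) := by rw [Nat.card_eq_fintype_card]; exact hodd'
  have h2 := two_ne_zero_of_odd hodd
  have hqne : Nat.card F ≠ 2 := by
    intro h; rw [h] at hodd; exact absurd hodd (by decide)
  have hQ := S0292.oddForm_nondegenerate h2 m
  have hsim : IsSimpleGroup (POmega F (quadFormOdd m F)) := S0295.result hodd' m (by omega)
  obtain ⟨a, hA, hao⟩ := exists_A (F := F) (fun h1 h2 h3 h4 h5 h6 => H906.Cov.exists_num h1 h2 h3 h4 h5 h6) hodd hm
  obtain ⟨c, hC, l', P', hcl, -⟩ := exists_C (F := F) hodd' hm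
  have hlodd : Odd l' := P'.prime.odd_of_ne_two (by
    have := P'.lt (Nat.card_pos (α := F))
    omega)
  set α := om h2 hao a hA.iso (pow_orderOf_eq_one a) hqne with hα
  set γ := om h2 hlodd c hC.iso hcl hqne with hγ
  have eα : act α = a := act_om h2 hao a hA.iso (pow_orderOf_eq_one a) hqne
  have eγ : act γ = c := act_om h2 hlodd c hC.iso hcl hqne
  obtain ⟨l, x, P, hxa, hxl, hx1⟩ := hA.pr
  have hV : finrank F (Unit ⊕ (Fin m ⊕ Fin m) → F) = 2 * m + 1 := finrank_odd
  have hfx : finrank F (fx x) = 1 := by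
    have h4 := finrank_mv_eq P hxl hx1 (by omega)
    have h5 := finrank_mv x
    omega
  -- elements commuting with `a` preserve the line
  have hcomm : ∀ y : Omega F (quadFormOdd m F), act y * a = a * act y → y ∈ St (fx x) := by
    intro y hy v hv
    have hv' : x v = v := mem_fx.1 hv
    have h3 : act y * x = x * act y := by
      obtain ⟨k, rfl⟩ := Subgroup.mem_zpowers_iff.1 hxa
      exact ((show Commute (act y) a from hy).zpow_right k).eq
    rw [mem_fx]
    have h4 := congrArg (fun g : (Unit ⊕ (Fin m ⊕ Fin m) → F) ≃ₗ[F] (Unit ⊕ (Fin m ⊕ Fin m) → F) => g v) h3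
    have h5 : act y (x v) = x (act y v) := h4
    rw [← h5, hv']
  have hαM : α ∈ St (fx x) := hcomm α (by rw [eα])
  have hγM : γ ∉ St (fx x) := by
    intro hγM
    refine no_line_AC hm hA hC hfx ?_ ?_
    · rw [← eα]; exact hαM
    · rw [← eγ]; exact hγM
  have hcen : ∀ y : Omega F (quadFormOdd m F), y ∈ Subgroup.center (Omega F (quadFormOdd m F)) → y ∈ St (fx x) := by
    intro y hy
    refine hcomm y ?_
    rw [← eα, ← act_mul, ← act_mul, Subgroup.mem_center_iff.1 hy α]
  have hna : ∃ x y : POmega F (quadFormOdd m F), x * y ≠ y * x := by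
    by_contra hcon
    push Not at hcon
    let cg : CommGroup (POmega F (quadFormOdd m F)) :=
      { (inferInstance : Group (POmega F (quadFormOdd m F))) with mul_comm := hcon }
    have hcyc : IsCyclic (POmega F (quadFormOdd m F)) := @IsSimpleGroup.isCyclic _ cg hsim
    have h3 := MonoidHom.isMulCommutative_of_isCyclic_of_ker_le_center
      (QuotientGroup.mk' (Subgroup.center (Omega F (quadFormOdd m F)))) (by rw [QuotientGroup.ker_mk'])
    exact hγM (hcomm γ (by rw [← eα, ← act_mul, ← act_mul, h3.is_comm.comm γ α]))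
  refine spr_of_one_up hna (QuotientGroup.mk' _) (QuotientGroup.mk'_surjective _) (s := α) (M := St (fx x)) ?_ ?_ ?_
  · intro y hy
    rw [QuotientGroup.ker_mk'] at hy
    exact hcen y hy
  · intro htop
    apply hγM
    rw [htop]
    exact Subgroup.mem_top _
  · intro K _ hs hK
    rcases red_or_ext hog hodd' hK (g := inc m F α) ⟨α, hs, rfl⟩ (by rw [orderOf_inc, eα]; exact hA.num) with
      ⟨X, hX0, hX1, hX⟩ | ⟨r, E, hr, hrd, -⟩
    · -- the dimension of `X`
      have haX : ∀ v ∈ X, a v ∈ X := by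
        have := hX α hs
        rwa [eα] at this
      have h1 := dvd_dim P hxl X (inv_of_zpowers haX hxa)
      have h2' : finrank F (X ⊓ fx x : Submodule F (Unit ⊕ (Fin m ⊕ Fin m) → F)) ≤ finrank F (fx x) :=
        Submodule.finrank_mono inf_le_right
      have h3 : 0 < finrank F X := by
        rw [pos_iff_ne_zero]; intro h; exact hX0 (Submodule.finrank_eq_zero.1 h)
      have h4 : finrank F X < finrank F (Unit ⊕ (Fin m ⊕ Fin m) → F) := Submodule.finrank_lt hX1
      obtain ⟨k, hk⟩ := h1
      have h5 : finrank F X = 1 ∨ finrank F X = 2 * m := by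
        rcases Nat.eq_zero_or_pos k with rfl | hk0
        · left; omega
        · right
          have : 2 * m * 1 ≤ 2 * m * k := Nat.mul_le_mul_left _ hk0
          omega
      -- an invariant line
      obtain ⟨L, hL, hLK⟩ : ∃ L : Submodule F (Unit ⊕ (Fin m ⊕ Fin m) → F), finrank F L = 1 ∧
          ∀ y ∈ K, ∀ v ∈ L, act y v ∈ L := by
        rcases h5 with h5 | h5
        · exact ⟨X, h5, hX⟩
        · exact ⟨pp (oddForm m F) X, by rw [finrank_pp hQ]; omega, fun y hy => pp_inv (act_iso y) (hX y hy)⟩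
      have hLx : L = fx x := by
        apply Submodule.eq_of_le_of_finrank_eq
        · refine line_le_fx P (by omega) hxl hL (inv_of_zpowers ?_ hxa)
          have := hLK α hs
          rwa [eα] at this
        · rw [hL, hfx]
      intro y hy
      rw [← hLx]
      exact hLK y hy
    · have h3 : Nat.gcd (2 * m + 1) (2 * m) = 1 := by
        rw [Nat.gcd_comm]; simp
      rw [h3] at hrd
      exact absurd (Nat.dvd_one.1 hrd) hr.one_lt.ne'

end Cfsg.Agent.H239.SprOodd
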